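import Cfsg.Agent.Mrg.Omega.NO3S.OneQ.POne

section


/-!
# NO-3S, `OneQ`, case (TR) `[W_Z, W_Y] ≤ V` (bb OMEGA #20607, #20975): the pure system over `Co`

* `Co.TR` : `[W_Z, W_Y] ≤ V`; `Co.rcz` : the representation of `C_G(Z)` on `MF`; `Co.vv c = rcz c v0`;
* `Co.Th w` : the functional of `sw w sw⁻¹` (`ag_Th : ag w m = m + Th w m • v0`); `Th_mul`, `Th_eq_zero` (`↔ w ∈ E_Z`);
* `Co.Ph` : the group of all `Th w`; `Co.Phi c`; `mem_Phi` : `φ ∈ Phi c` iff some `c (sw w sw⁻¹) c⁻¹` acts as `1 + φ ⊗ vv c`;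
* `Phi_self`, `Phi_norm`, `Phi_act`, `vv_span`.
-/

set_option autoImplicit false
set_option linter.unusedSectionVars false

namespace Cfsg.Agent.Omega.NO3S.OneQ

open Subgroup Cfsg.Agent.Omega.NO3S.PT Cfsg.Agent.Omega.NoFF.Basic
open scoped Pointwise

universe u

variable {G : Type u} [Group G]

namespace Co

variable [Finite G] {F : Type*} [Field F] [CharP F 2] {S : Sylow 2 G} {B P V Z : Subgroup G} (h : Co F S B P V Z)

/-- case (TR) -/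
def TR : Prop := ∀ w ∈ ws V Z, ∀ u ∈ ws V h.Yp, w * u * w⁻¹ * u⁻¹ ∈ V

/-- the representation of `C_G(Z)` -/
noncomputable abbrev rcz : Representation F (centralizer (Z : Set G)) h.MF := h.rp.comp (Subgroup.inclusion h.C_le_hat)

theorem rcz_apply (c : centralizer (Z : Set G)) : h.rcz c = h.rp ⟨c, h.C_le_hat c.2⟩ := rfl

theorem C_norm {c : G} (hc : c ∈ centralizer (Z : Set G)) : c ∈ normalizer (Z : Set G) := centralizer_le_normalizer _ hc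

theorem rcz_fm (c : centralizer (Z : Set G)) (w : ws V Z) :
    h.rcz c (h.fm w) = h.fm ⟨c * w * (c : G)⁻¹, h.W_conj (C_norm c.2) w.2⟩ := h.rp_fm' (h.C_le_hat c.2) w.2

theorem rcz_mul (c d : centralizer (Z : Set G)) (m : h.MF) : h.rcz (c * d) m = h.rcz c (h.rcz d m) := by
  rw [map_mul]; rfl

theorem rcz_one (m : h.MF) : h.rcz 1 m = m := by
  rw [map_one]; rfl

theorem rcz_inv_rc (c : centralizer (Z : Set G)) (m : h.MF) : h.rcz c⁻¹ (h.rcz c m) = m := by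
  rw [← h.rcz_mul, inv_mul_cancel, h.rcz_one]

theorem rcz_rc_inv (c : centralizer (Z : Set G)) (m : h.MF) : h.rcz c (h.rcz c⁻¹ m) = m := by
  rw [← h.rcz_mul, mul_inv_cancel, h.rcz_one]

/-- `K_Z` acts trivially -/
theorem rcz_K {k : centralizer (Z : Set G)} (hk : (k : G) ∈ kx V Z) (m : h.MF) : h.rcz k m = m := h.rp_K hk m

/-- the vector of the line `c` -/
noncomputable def vv (c : centralizer (Z : Set G)) : h.MF := h.rcz c h.v0

theorem vv_one : h.vv 1 = h.v0 := h.rcz_one _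

theorem rcz_vv (c d : centralizer (Z : Set G)) : h.rcz c (h.vv d) = h.vv (c * d) := (h.rcz_mul c d _).symm

theorem vv_ne (c : centralizer (Z : Set G)) : h.vv c ≠ 0 := by
  intro h1
  have h2 := h.rcz_inv_rc c h.v0
  rw [show h.rcz c h.v0 = 0 from h1, map_zero] at h2
  exact h.v0_ne h2.symm

/-- the lift of `a • vv c` in the line `c` -/
def lf (c : centralizer (Z : Set G)) (a : F) : ws V Z := ⟨c * h.e 0 a * (c : G)⁻¹, h.W_conj (C_norm c.2) (h.W_V 0 a)⟩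

theorem fm_lf (c : centralizer (Z : Set G)) (a : F) : h.fm (h.lf c a) = a • h.vv c := by
  have h1 := h.rcz_fm c ⟨h.e 0 a, h.W_V 0 a⟩
  rw [h.fm_e, map_smul] at h1
  exact h1.symm

theorem exists_dl : ∃ f : Module.Dual F h.MF, f h.v0 = 1 := by
  obtain ⟨f, hf⟩ : ∃ f : Module.Dual F h.MF, f h.v0 ≠ 0 := by
    by_contra hcon
    push Not at hcon
    exact h.v0_ne ((Module.forall_dual_apply_eq_zero_iff F _).1 hcon)
  exact ⟨(f h.v0)⁻¹ • f, by rw [LinearMap.smul_apply, smul_eq_mul, inv_mul_cancel₀ hf]⟩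

/-- a functional with `dl v0 = 1` -/
noncomputable def dl : Module.Dual F h.MF := h.exists_dl.choose

theorem dl_v0 : h.dl h.v0 = 1 := h.exists_dl.choose_spec

theorem smul_v0_inj {a b : F} (hab : a • h.v0 = b • h.v0) : a = b := by
  have := congrArg h.dl hab
  rwa [map_smul, map_smul, h.dl_v0, smul_eq_mul, smul_eq_mul, mul_one, mul_one] at this

theorem smul_vv_inj {c : centralizer (Z : Set G)} {a b : F} (hab : a • h.vv c = b • h.vv c) : a = b := by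
  apply h.smul_v0_inj
  have := congrArg (h.rcz c⁻¹) hab
  rwa [map_smul, map_smul, vv, h.rcz_inv_rc] at this

/-- the functional of `sw w sw⁻¹` -/
noncomputable def Th (w : ws V Z) : Module.Dual F h.MF := h.dl ∘ₗ (h.ag w - 1)

theorem Th_apply (w : ws V Z) (m : h.MF) : h.Th w m = h.dl (h.ag w m - m) := rfl

variable {h}

/-- an element of `W_Y` acts as a `λ`-transvection -/
theorem TR.sub (hT : h.TR) {u : G} (hu : u ∈ ws V h.Yp) (m : h.MF) :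
    ∃ a : F, h.rp ⟨u, h.W_hat h.pY hu⟩ m - m = a • h.v0 := by
  obtain ⟨w, rfl⟩ := h.fm_surj m
  obtain ⟨v, hv, hv', e⟩ := h.rp_W h.pY h.Yp_ne hu w
  have h1 : v ∈ V := by
    have h2 := inv_mem (hT w w.2 u hu)
    have e2 : ((w : G) * u * (w : G)⁻¹ * u⁻¹)⁻¹ = v := by rw [hv']; group
    rwa [e2] at h2
  obtain ⟨x, y, hxy⟩ := (h.mem_V v).1 h1
  refine ⟨y, ?_⟩
  rw [e, ← h.fm_e x y]
  congr 1
  exact Subtype.ext hxy.symm

theorem TR.ag_Th (hT : h.TR) (w : ws V Z) (m : h.MF) : h.ag w m = m + h.Th w m • h.v0 := by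
  obtain ⟨a, ha⟩ := hT.sub (h.sw_W w.2) m
  have h1 : h.ag w m - m = a • h.v0 := ha
  rw [h.Th_apply, h1, map_smul, h.dl_v0, smul_eq_mul, mul_one, ← h1, add_sub_cancel]

variable (h)

theorem ag_v0 (w : ws V Z) : h.ag w h.v0 = h.v0 := by
  have h1 := h.rp_W_I h.pY (h.sw_W w.2) (h.one.pl.V_le_IV (h.e_memV 0 1))
  exact h1

theorem Th_v0 (w : ws V Z) : h.Th w h.v0 = 0 := by
  rw [h.Th_apply, h.ag_v0, sub_self, map_zero]

variable {h}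

theorem TR.Th_eq (hT : h.TR) {w : ws V Z} {f : Module.Dual F h.MF} (hf : ∀ m, h.ag w m = m + f m • h.v0) : h.Th w = f := by
  refine LinearMap.ext fun m => h.smul_v0_inj ?_
  have h1 := hf m
  rw [hT.ag_Th] at h1
  exact add_left_cancel h1

theorem TR.Th_mul (hT : h.TR) (w w' : ws V Z) : h.Th (w * w') = h.Th w + h.Th w' := by
  refine hT.Th_eq fun m => ?_
  rw [h.ag_mul, Module.End.mul_apply, hT.ag_Th w, hT.ag_Th w', map_add, map_smul, h.Th_v0, smul_zero, add_zero,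
    LinearMap.add_apply, add_smul]
  abel

theorem TR.Th_of_kx (hT : h.TR) {w : ws V Z} (hw : (w : G) ∈ ee V Z Z) : h.Th w = 0 := by
  refine LinearMap.ext fun m => ?_
  rw [h.Th_apply, h.ag_one_of hw, Module.End.one_apply, sub_self, map_zero]
  rfl

theorem TR.Th_eq_zero (hT : h.TR) {w : ws V Z} : h.Th w = 0 ↔ (w : G) ∈ ee V Z Z := by
  refine ⟨fun h1 => ?_, fun hw => hT.Th_of_kx hw⟩
  have h2 : h.sw * w * h.sw⁻¹ ∈ ee V Z h.Yp := by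
    rw [h.one.ee_eq h.pY h.one.self h.Yp_ne.symm]
    refine ⟨h.sw_W w.2, mem_kx.2 ⟨(mem_centralizer_iff.1 (h.one.W_le_C h.pY (h.sw_W w.2)) · · |>.symm), fun v hv => ?_⟩⟩
    obtain ⟨u, hu, hu', e⟩ := h.rp_W h.pY h.Yp_ne (h.sw_W w.2) ⟨v, hv⟩
    have h3 : h.rp ⟨h.sw * w * h.sw⁻¹, h.W_hat h.pY (h.sw_W w.2)⟩ (h.fm ⟨v, hv⟩) = h.fm ⟨v, hv⟩ := by
      have := hT.ag_Th w (h.fm ⟨v, hv⟩)
      rw [h1, LinearMap.zero_apply, zero_smul, add_zero] at this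
      exact this
    rw [h3, sub_self] at e
    rw [← hu']
    exact h.rd_inf_I ⟨(h.fm_eq_zero _).1 e.symm, hu⟩
  exact h.sw_ee.1 h2

theorem TR.Th_Z (hT : h.TR) {w : ws V Z} (hw : (w : G) ∈ Z) : h.Th w = 0 :=
  hT.Th_of_kx (h.one.dd_le_ee h.one.self (h.one.X_le_dd h.one.self hw))

theorem TR.Th_one (hT : h.TR) : h.Th 1 = 0 := hT.Th_Z (one_mem _)

theorem TR.Th_inv (hT : h.TR) (w : ws V Z) : h.Th w⁻¹ = h.Th w := by
  have _ := hT
  congr 1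
  exact Subtype.ext (h.one.inv_eq_W h.one.self w.2)

/-- `Th` does not see `Z` -/
theorem TR.Th_congr (hT : h.TR) {w w' : ws V Z} (hw : (w : G) * (w' : G)⁻¹ ∈ Z) : h.Th w = h.Th w' := by
  have h1 := hT.Th_mul (w * w'⁻¹) w'
  rw [inv_mul_cancel_right, hT.Th_Z (w := w * w'⁻¹) hw, zero_add] at h1
  exact h1

/-- `Th` does not see `E_Z` -/
theorem TR.Th_congr' (hT : h.TR) {w w' : ws V Z} (hw : (w : G) * (w' : G)⁻¹ ∈ ee V Z Z) : h.Th w = h.Th w' := by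
  have h1 := hT.Th_mul (w * w'⁻¹) w'
  rw [inv_mul_cancel_right, hT.Th_of_kx (w := w * w'⁻¹) hw, zero_add] at h1
  exact h1

/-- the group of the functionals `Th w` -/
noncomputable def TR.Ph (hT : h.TR) : AddSubgroup (Module.Dual F h.MF) where
  carrier := {φ | ∃ w, h.Th w = φ}
  zero_mem' := ⟨1, hT.Th_one⟩
  add_mem' := by
    rintro _ _ ⟨w, rfl⟩ ⟨w', rfl⟩
    exact ⟨w * w', hT.Th_mul w w'⟩
  neg_mem' := by
    rintro _ ⟨w, rfl⟩
    refine ⟨w⁻¹, ?_⟩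
    rw [eq_neg_iff_add_eq_zero, ← hT.Th_mul, inv_mul_cancel, hT.Th_one]

theorem TR.mem_Ph (hT : h.TR) {φ : Module.Dual F h.MF} : φ ∈ hT.Ph ↔ ∃ w, h.Th w = φ := Iff.rfl

/-- `Φ_c` -/
noncomputable def TR.Phi (hT : h.TR) (c : centralizer (Z : Set G)) : AddSubgroup (Module.Dual F h.MF) :=
  hT.Ph.comap ((h.rcz c).dualMap : Module.Dual F h.MF →+ Module.Dual F h.MF)

theorem TR.mem_Phi' (hT : h.TR) {c : centralizer (Z : Set G)} {φ : Module.Dual F h.MF} :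
    φ ∈ hT.Phi c ↔ ∃ w, h.Th w = φ ∘ₗ h.rcz c := Iff.rfl

/-- `φ ∈ Φ_c` iff some `c (sw w sw⁻¹) c⁻¹` acts as `1 + φ ⊗ v_c` -/
theorem TR.mem_Phi (hT : h.TR) {c : centralizer (Z : Set G)} {φ : Module.Dual F h.MF} :
    φ ∈ hT.Phi c ↔ ∃ w, ∀ m, h.rcz c (h.ag w (h.rcz c⁻¹ m)) = m + φ m • h.vv c := by
  rw [hT.mem_Phi']
  refine exists_congr fun w => ⟨fun hw m => ?_, fun hw => LinearMap.ext fun m => ?_⟩
  · rw [hT.ag_Th, hw, map_add, h.rcz_rc_inv, map_smul, LinearMap.comp_apply, h.rcz_rc_inv]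
    rfl
  · have h1 := hw (h.rcz c m)
    rw [h.rcz_inv_rc, hT.ag_Th, map_add, map_smul] at h1
    exact h.smul_vv_inj (add_left_cancel h1)

theorem TR.Phi_one (hT : h.TR) : hT.Phi 1 = hT.Ph := by
  ext φ
  rw [hT.mem_Phi', hT.mem_Ph]
  have e : φ ∘ₗ h.rcz 1 = φ := LinearMap.ext fun m => by rw [LinearMap.comp_apply, h.rcz_one]
  rw [e]

/-- (self) -/
theorem TR.Phi_self (hT : h.TR) {c : centralizer (Z : Set G)} {φ : Module.Dual F h.MF} (hφ : φ ∈ hT.Phi c) :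
    φ (h.vv c) = 0 := by
  obtain ⟨w, hw⟩ := hT.mem_Phi'.1 hφ
  have h1 := LinearMap.congr_fun hw h.v0
  rw [h.Th_v0, LinearMap.comp_apply] at h1
  exact h1.symm

theorem TR.Phi_mul (hT : h.TR) {a c : centralizer (Z : Set G)} {φ : Module.Dual F h.MF} :
    φ ∈ hT.Phi (a * c) ↔ φ ∘ₗ h.rcz a ∈ hT.Phi c := by
  rw [hT.mem_Phi', hT.mem_Phi']
  have e : φ ∘ₗ h.rcz (a * c) = (φ ∘ₗ h.rcz a) ∘ₗ h.rcz c := LinearMap.ext fun m => by
    rw [LinearMap.comp_apply, h.rcz_mul]; rfl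
  rw [e]

/-- the elements acting as `1 + φ ⊗ v_c` -/
theorem TR.exists_act (hT : h.TR) {c : centralizer (Z : Set G)} {φ : Module.Dual F h.MF} (hφ : φ ∈ hT.Phi c) :
    ∃ (u : G) (hu : u ∈ ws V h.Yp) (a : centralizer (Z : Set G)), (a : G) = c * u * (c : G)⁻¹ ∧
      (∀ m, h.rcz a m = m + φ m • h.vv c) := by
  obtain ⟨w, hw⟩ := hT.mem_Phi.1 hφ
  have hu := h.sw_W w.2
  have huC := h.one.W_le_C h.pY hu
  refine ⟨_, hu, c * ⟨_, huC⟩ * c⁻¹, rfl, fun m => ?_⟩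
  rw [h.rcz_mul, h.rcz_mul]
  exact hw m

/-- (act) -/
theorem TR.Phi_act (hT : h.TR) {j : centralizer (Z : Set G)} {ψ : Module.Dual F h.MF} (hψ : ψ ∈ hT.Phi j)
    (i : centralizer (Z : Set G)) : ∃ i', h.vv i' = h.vv i + ψ (h.vv i) • h.vv j ∧
      ∀ φ, φ ∈ hT.Phi i' ↔ φ + φ (h.vv j) • ψ ∈ hT.Phi i := by
  obtain ⟨u, hu, a, hau, ha⟩ := hT.exists_act hψ
  refine ⟨a * i, ?_, fun φ => ?_⟩
  · rw [← h.rcz_vv, ha]
  · rw [hT.Phi_mul]
    have e : φ ∘ₗ h.rcz a = φ + φ (h.vv j) • ψ := LinearMap.ext fun m => by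
      rw [LinearMap.comp_apply, ha, map_add, map_smul, LinearMap.add_apply, LinearMap.smul_apply, smul_eq_mul,
        smul_eq_mul, mul_comm]
    rw [e]

variable (h)

/-- (span) -/
theorem vv_span (m : h.MF) : m ∈ Submodule.span F (Set.range h.vv) := by
  let D : Subgroup G :=
    { carrier := {w | ∃ hw : w ∈ ws V Z, h.fm ⟨w, hw⟩ ∈ Submodule.span F (Set.range h.vv)}
      one_mem' := ⟨one_mem _, by
        have : h.fm ⟨1, one_mem _⟩ = 0 := h.fm_one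
        rw [this]; exact zero_mem _⟩
      mul_mem' := by
        rintro a b ⟨ha, ha'⟩ ⟨hb, hb'⟩
        refine ⟨mul_mem ha hb, ?_⟩
        have : h.fm ⟨a * b, mul_mem ha hb⟩ = h.fm ⟨a, ha⟩ + h.fm ⟨b, hb⟩ := h.fm_mul ⟨a, ha⟩ ⟨b, hb⟩
        rw [this]
        exact add_mem ha' hb'
      inv_mem' := by
        rintro a ⟨ha, ha'⟩
        refine ⟨inv_mem ha, ?_⟩
        have : h.fm ⟨a⁻¹, inv_mem ha⟩ = h.fm ⟨a, ha⟩ := h.fm_inv ⟨a, ha⟩
        rw [this]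
        exact ha' }
  have hV : V ≤ D := by
    intro v hv
    obtain ⟨x, y, rfl⟩ := (h.mem_V v).1 hv
    refine ⟨h.W_V x y, ?_⟩
    rw [h.fm_e]
    exact Submodule.smul_mem _ _ (Submodule.subset_span ⟨1, h.vv_one⟩)
  have hC : centralizer (Z : Set G) ≤ normalizer (D : Set G) := by
    have key : ∀ g ∈ centralizer (Z : Set G), ∀ x ∈ D, g * x * g⁻¹ ∈ D := by
      rintro g hg x ⟨hx, hx'⟩
      refine ⟨h.W_conj (C_norm hg) hx, ?_⟩
      have e := h.rcz_fm ⟨g, hg⟩ ⟨x, hx⟩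
      have e2 : h.fm ⟨g * x * g⁻¹, h.W_conj (C_norm hg) hx⟩ = h.rcz ⟨g, hg⟩ (h.fm ⟨x, hx⟩) := e.symm
      rw [e2]
      have h1 : Submodule.span F (Set.range h.vv) ≤ (Submodule.span F (Set.range h.vv)).comap (h.rcz ⟨g, hg⟩) := by
        rw [Submodule.span_le]
        rintro _ ⟨c, rfl⟩
        show h.rcz ⟨g, hg⟩ (h.vv c) ∈ Submodule.span F (Set.range h.vv)
        rw [h.rcz_vv]
        exact Submodule.subset_span ⟨_, rfl⟩
      exact h1 hx'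
    intro g hg
    rw [mem_normalizer_iff]
    intro x
    refine ⟨key g hg x, fun hx => ?_⟩
    have h1 := key g⁻¹ (inv_mem hg) _ hx
    have e : g⁻¹ * (g * x * g⁻¹) * g⁻¹⁻¹ = x := by group
    rwa [e] at h1
  obtain ⟨w, rfl⟩ := h.fm_surj m
  obtain ⟨_, hw⟩ := h.W_le_of_V hV hC w.2
  exact hw

theorem vv_sep {φ : Module.Dual F h.MF} (hφ : ∀ i, φ (h.vv i) = 0) : φ = 0 := by
  refine LinearMap.ext fun m => ?_
  refine Submodule.span_induction (p := fun m _ => φ m = (0 : Module.Dual F h.MF) m) ?_ (by simp) ?_ ?_ (h.vv_span m)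
  · rintro _ ⟨i, rfl⟩
    exact hφ i
  · intro x y _ _ hx hy
    rw [map_add, hx, hy]; simp
  · intro a x _ hx
    rw [map_smul, hx]; simp

end Co

end Cfsg.Agent.Omega.NO3S.OneQ

end

section


/-!
# NO-3S, `OneQ`, case (TR) (bb OMEGA #20607, #20975): conjugation, (inv), the torus

* `Co.fix_line` : `d ∈ C_G(Z)` trivial on `V / Z` lies in `K_Z C_G(V)`;
* `Co.wj hg w = g w g⁻¹` ; `TR.comm_line` : `[a, w] ∈ lf j (ψ (fm w)) Z` for `a = j u j⁻¹` acting as `1 + ψ ⊗ v_j`;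
* `TR.Th_fix` : `Th (d w d⁻¹) ∘ d = Th w` for `d` as in `fix_line`; `TR.inv`;
* `TR.Th_tor` : `Th (τ w τ⁻¹) = s • Th w ∘ T`; `TR.tor_b`, `TR.tor_γ`; `TR.hor`.
-/

set_option autoImplicit false
set_option linter.unusedSectionVars false

namespace Cfsg.Agent.Omega.NO3S.OneQ

open Subgroup Cfsg.Agent.Omega.NO3S.PT Cfsg.Agent.Omega.NoFF.Basic
open scoped Pointwise

universe u

variable {G : Type u} [Group G]

namespace Co

variable [Finite G] {F : Type*} [Field F] [CharP F 2] {S : Sylow 2 G} {B P V Z : Subgroup G} (h : Co F S B P V Z)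

include h in
/-- an element of `C_G(Z)` trivial on `V / Z` lies in `K_Z C_G(V)` -/
theorem fix_line {d : G} (hd : d ∈ centralizer (Z : Set G)) (h1 : ∀ y, d * h.e 0 y * d⁻¹ * (h.e 0 y)⁻¹ ∈ Z) :
    ∃ k ∈ kx V Z, k⁻¹ * d ∈ centralizer (V : Set G) := by
  obtain ⟨t, ht⟩ := (h.mem_Z _).1 (h1 1)
  obtain ⟨k, hk, -, hkt⟩ := h.exists_K t
  refine ⟨k, hk, ?_⟩
  set f := k⁻¹ * d with hf
  have hkC : k ∈ centralizer (Z : Set G) := kx_le_cent hk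
  have hfC : f ∈ centralizer (Z : Set G) := mul_mem (inv_mem hkC) hd
  have hf1 : f * h.e 0 1 = h.e 0 1 * f := by
    have e1 : d * h.e 0 1 * d⁻¹ = k * h.e 0 1 * k⁻¹ := by
      rw [hkt, zero_add, mul_one]
      have e2 : d * h.e 0 1 * d⁻¹ = h.e t 0 * h.e 0 1 := by rw [ht]; group
      rw [e2, ← h.e_add, add_zero, zero_add]
    calc f * h.e 0 1 = k⁻¹ * (d * h.e 0 1 * d⁻¹) * d := by rw [hf]; group
      _ = k⁻¹ * (k * h.e 0 1 * k⁻¹) * d := by rw [e1]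
      _ = h.e 0 1 * f := by rw [hf]; group
  -- `f` acts trivially on `V / Z`
  have hfy : ∀ y, ∃ x, f * h.e 0 y * f⁻¹ = h.e x y := by
    intro y
    obtain ⟨s, hs⟩ := (h.mem_Z _).1 (h1 y)
    have e2 : d * h.e 0 y * d⁻¹ = h.e s y := by
      have e3 : d * h.e 0 y * d⁻¹ = h.e s 0 * h.e 0 y := by rw [hs]; group
      rw [e3, ← h.e_add, add_zero, zero_add]
    refine ⟨s + t * y, ?_⟩
    have hki : ∀ x y, k⁻¹ * h.e x y * k = h.e (x + t * y) y := by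
      intro x y
      have e4 : h.e x y = h.e (x + t * y + t * y) y := by rw [add_assoc, CharTwo.add_self_eq_zero, add_zero]
      rw [e4, ← hkt]; group
    have e5 : f * h.e 0 y * f⁻¹ = k⁻¹ * (d * h.e 0 y * d⁻¹) * k := by rw [hf]; group
    rw [e5, e2, hki]
  have hfz : ∀ x, f * h.e x 0 * f⁻¹ = h.e x 0 := fun x => by
    rw [(mem_centralizer_iff.1 hfC _ (h.e_memZ x)).symm, mul_inv_cancel_right]
  have hfxy : ∀ x y, ∃ x', f * h.e x y * f⁻¹ = h.e x' y := by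
    intro x y
    obtain ⟨x', hx'⟩ := hfy y
    refine ⟨x + x', ?_⟩
    have e1 : h.e x y = h.e x 0 * h.e 0 y := by rw [← h.e_add, add_zero, zero_add]
    have e2 : f * h.e x y * f⁻¹ = f * h.e x 0 * f⁻¹ * (f * h.e 0 y * f⁻¹) := by rw [e1]; group
    rw [e2, hfz, hx', ← h.e_add, zero_add]
  have hfV : f ∈ normalizer (V : Set G) := by
    rw [← cj_eq_iff]
    refine eq_of_le_of_card_ge ?_ (by rw [card_cj])
    intro v hv
    rw [mem_cj] at hv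
    obtain ⟨x, y, hxy⟩ := (h.mem_V _).1 hv
    obtain ⟨x', hx'⟩ := hfxy x y
    rw [hxy] at hx'
    have e : f * (f⁻¹ * v * f) * f⁻¹ = v := by group
    rw [e] at hx'
    rw [hx']
    exact h.e_memV _ _
  have hff : f * f ∈ centralizer (V : Set G) := by
    refine h.mem_cent fun x y => ?_
    obtain ⟨x', hx'⟩ := hfy y
    have e1 : h.e x y = h.e x 0 * h.e 0 y := by rw [← h.e_add, add_zero, zero_add]
    have e2 : f * f * h.e x y * (f * f)⁻¹ = f * (f * h.e x 0 * f⁻¹) * f⁻¹ * (f * (f * h.e 0 y * f⁻¹) * f⁻¹) := by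
      rw [e1]; group
    have e3 : h.e x' y = h.e x' 0 * h.e 0 y := by rw [← h.e_add, add_zero, zero_add]
    have e4 : f * h.e x' y * f⁻¹ = f * h.e x' 0 * f⁻¹ * (f * h.e 0 y * f⁻¹) := by rw [e3]; group
    rw [e2, hfz, hfz, hx', e4, hfz, hx', ← h.e_add, ← h.e_add]
    congr 1
    · rw [← add_assoc, add_comm x x', add_assoc, add_comm x, ← add_assoc, CharTwo.add_self_eq_zero, zero_add]
    · rw [zero_add, zero_add]
  obtain ⟨m, hm, hfm⟩ := exists_odd_pow f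
  have hmV : f ^ m ∈ centralizer (V : Set G) := by
    refine h.one.pl.two_line hfm (pow_mem hfC m) (pow_mem hfV m) (h.e_memV 0 1) ?_
      (Commute.pow_left (show Commute f (h.e 0 1) from hf1) m)
    rw [h.e_memZ_iff]
    exact one_ne_zero
  obtain ⟨j, rfl⟩ := hm
  have e : f = f ^ (2 * j + 1) * ((f * f) ^ j)⁻¹ := by
    rw [pow_succ', pow_mul, pow_two, mul_inv_cancel_right]
  rw [e]
  exact mul_mem hmV (inv_mem (pow_mem hff j))

/-- `g w g⁻¹` -/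
def wj {g : G} (hg : g ∈ normalizer (Z : Set G)) (w : ws V Z) : ws V Z := ⟨g * w * g⁻¹, h.W_conj hg w.2⟩

theorem wj_coe {g : G} (hg : g ∈ normalizer (Z : Set G)) (w : ws V Z) : (h.wj hg w : G) = g * w * g⁻¹ := rfl

theorem fm_wj {g : G} (hg : g ∈ h.hat) (w : ws V Z) : h.fm (h.wj (h.hat_norm hg) w) = h.rp ⟨g, hg⟩ (h.fm w) :=
  (h.rp_fm ⟨g, hg⟩ w).symm

theorem fm_wj' {g : G} (hg : g ∈ centralizer (Z : Set G)) (w : ws V Z) :
    h.fm (h.wj (C_norm hg) w) = h.rcz ⟨g, hg⟩ (h.fm w) := (h.rcz_fm ⟨g, hg⟩ w).symm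

variable {h}

/-- `[a, w] ∈ lf j (ψ (fm w)) Z` -/
theorem TR.comm_line (hT : h.TR) {j a : centralizer (Z : Set G)} {u : G} (hu : u ∈ ws V h.Yp)
    (hau : (a : G) = j * u * (j : G)⁻¹) {ψ : Module.Dual F h.MF} (ha : ∀ m, h.rcz a m = m + ψ m • h.vv j) (w : ws V Z) :
    (a : G) * w * (a : G)⁻¹ * (h.lf j (ψ (h.fm w)) * w : G)⁻¹ ∈ Z := by
  have hjN := C_norm j.2
  have hw' : (j : G)⁻¹ * w * j ∈ ws V Z := by
    have := h.W_conj (inv_mem hjN) w.2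
    rwa [inv_inv] at this
  -- `[a, w] = j v j⁻¹`, `v ∈ V`
  have h1 : u * ((j : G)⁻¹ * w * j) * u⁻¹ * ((j : G)⁻¹ * w * j)⁻¹ ∈ V := by
    have h2 := inv_mem (hT _ hw' u hu)
    have e2 : ((j : G)⁻¹ * w * j * u * ((j : G)⁻¹ * w * j)⁻¹ * u⁻¹)⁻¹ =
      u * ((j : G)⁻¹ * w * j) * u⁻¹ * ((j : G)⁻¹ * w * j)⁻¹ := by group
    rwa [e2] at h2
  obtain ⟨x, y, hxy⟩ := (h.mem_V _).1 h1
  have e3 : (a : G) * w * (a : G)⁻¹ * (w : G)⁻¹ = j * h.e x y * (j : G)⁻¹ := by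
    rw [hxy, hau]; group
  have e4 : (h.e x y : G) = h.e x 0 * h.e 0 y := by rw [← h.e_add, add_zero, zero_add]
  have e5 : (j : G) * h.e x 0 * (j : G)⁻¹ = h.e x 0 := by
    rw [(mem_centralizer_iff.1 j.2 _ (h.e_memZ x)).symm, mul_inv_cancel_right]
  have e6 : (a : G) * w * (a : G)⁻¹ * (w : G)⁻¹ = h.e x 0 * (h.lf j y : G) := by
    rw [e3, e4]
    have : (j : G) * (h.e x 0 * h.e 0 y) * (j : G)⁻¹ = (j * h.e x 0 * (j : G)⁻¹) * (j * h.e 0 y * (j : G)⁻¹) := by group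
    rw [this, e5]
    rfl
  -- the value of `y`
  have hxW : h.e x 0 ∈ ws V Z := h.W_V x 0
  have h7 : h.fm (h.wj (C_norm a.2) w) = h.fm (⟨h.e x 0, hxW⟩ * h.lf j y * w) := by
    congr 1
    apply Subtype.ext
    show (a : G) * w * (a : G)⁻¹ = h.e x 0 * (h.lf j y : G) * w
    rw [← e6]; group
  rw [h.fm_wj' a.2, h.fm_mul, h.fm_mul, h.fm_lf, ha, (h.fm_eq_zero ⟨h.e x 0, hxW⟩).2 (h.Z_le_rd (h.e_memZ x)), zero_add,
    add_comm (y • h.vv j)] at h7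
  have h8 := h.smul_vv_inj (add_left_cancel h7)
  rw [h8]
  have e9 : (a : G) * w * (a : G)⁻¹ * (h.lf j y * w : G)⁻¹ = h.e x 0 := by
    have : (a : G) * w * (a : G)⁻¹ * (h.lf j y * w : G)⁻¹ = (a : G) * w * (a : G)⁻¹ * (w : G)⁻¹ * (h.lf j y : G)⁻¹ := by
      group
    rw [this, e6]; group
  rw [e9]
  exact h.e_memZ x

/-- `Th` under conjugation -/
theorem TR.Th_conj (hT : h.TR) {g g' y : G} (hg : g ∈ normalizer (Z : Set G)) (hg' : g' ∈ h.hat) (hy : y ∈ yl V Z)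
    (he : h.sw * g * h.sw⁻¹ = g' * y) (w : ws V Z) (m : h.MF) :
    h.ag (h.wj hg w) (h.rp ⟨g', hg'⟩ m) = h.rp ⟨g', hg'⟩ (h.ag w m) := by
  have _ := hT
  have hu := h.sw_W w.2
  set u := h.sw * w * h.sw⁻¹ with hud
  have h1 := h.yl_A hy hu
  have hyh := h.C_le_hat (h.yl_C hy)
  have h2 : h.rp (⟨y, hyh⟩ * ⟨u, h.W_hat h.pY hu⟩ * ⟨y⁻¹, inv_mem hyh⟩) = h.rp ⟨u, h.W_hat h.pY hu⟩ := by
    rw [map_mul, map_mul, h1, mul_assoc, h.hat_mul_inv hyh, mul_one]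
  have hcu : h.sw * (h.wj hg w : G) * h.sw⁻¹ ∈ ws V h.Yp := h.sw_W (h.wj hg w).2
  have h3 : (⟨h.sw * (h.wj hg w : G) * h.sw⁻¹, h.W_hat h.pY hcu⟩ * ⟨g', hg'⟩ : h.hat) =
      ⟨g', hg'⟩ * (⟨y, hyh⟩ * ⟨u, h.W_hat h.pY hu⟩ * ⟨y⁻¹, inv_mem hyh⟩) := by
    apply Subtype.ext
    show h.sw * (h.wj hg w : G) * h.sw⁻¹ * g' = g' * (y * u * y⁻¹)
    have e1 : h.sw * (h.wj hg w : G) * h.sw⁻¹ = h.sw * g * h.sw⁻¹ * u * (h.sw * g * h.sw⁻¹)⁻¹ := by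
      rw [h.wj_coe, hud]; group
    rw [e1, he]; group
  have h4 := congrArg (fun x => h.rp x m) h3
  simp only [map_mul, Module.End.mul_apply] at h4
  have h5 := congrArg (fun f => f m) h2
  simp only [map_mul, Module.End.mul_apply] at h5
  rw [h5] at h4
  exact h4

/-- `Th` under conjugation, when `g'` fixes the line -/
theorem TR.Th_conj' (hT : h.TR) {g g' y : G} (hg : g ∈ normalizer (Z : Set G)) (hg' : g' ∈ h.hat) (hy : y ∈ yl V Z)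
    (he : h.sw * g * h.sw⁻¹ = g' * y) {b : F} (hb : h.rp ⟨g', hg'⟩ h.v0 = b • h.v0) (w : ws V Z) (m : h.MF) :
    h.Th (h.wj hg w) (h.rp ⟨g', hg'⟩ m) = h.Th w m * b := by
  have h1 := hT.Th_conj hg hg' hy he w m
  rw [hT.ag_Th, hT.ag_Th, map_add, map_smul, hb, smul_smul] at h1
  exact h.smul_v0_inj (add_left_cancel h1)

theorem TR.Th_K (hT : h.TR) {k : G} (hk : k ∈ kx V Z) (w : ws V Z) : h.Th (h.wj (C_norm (kx_le_cent hk)) w) = h.Th w :=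
  hT.Th_congr (h.kw_mem w.2 hk)

theorem TR.Th_yl (hT : h.TR) {y : G} (hy : y ∈ yl V Z) (w : ws V Z) : h.Th (h.wj (C_norm (h.yl_C hy)) w) = h.Th w :=
  hT.Th_congr' (h.one.yl_ee h.one.self hy w.2)

theorem TR.Th_cent (hT : h.TR) {c : G} (hc : c ∈ centralizer (V : Set G)) (w : ws V Z) (m : h.MF) :
    h.Th (h.wj (C_norm (centralizer_le h.one.pl.ZV hc)) w) (h.rcz ⟨c, centralizer_le h.one.pl.ZV hc⟩ m) = h.Th w m := by
  have hcC := centralizer_le h.one.pl.ZV hc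
  have hy : c⁻¹ * h.sw * c * h.sw⁻¹ ∈ yl V Z := by
    have h1 := inv_mem (h.one.comm_yl h.sw_XV (inv_mem hc))
    have e : (h.sw * c⁻¹ * h.sw⁻¹ * c⁻¹⁻¹)⁻¹ = c⁻¹ * h.sw * c * h.sw⁻¹ := by group
    rwa [e] at h1
  have h2 := hT.Th_conj' (C_norm hcC) (h.C_le_hat hcC) hy (by group) (b := 1)
    (by rw [h.rp_cV hc, one_smul]) w m
  rw [mul_one] at h2
  exact h2

/-- `Th (d w d⁻¹) ∘ d = Th w` for `d` trivial on `V / Z` -/
theorem TR.Th_fix (hT : h.TR) {d : centralizer (Z : Set G)} (h1 : ∀ y, (d : G) * h.e 0 y * (d : G)⁻¹ * (h.e 0 y)⁻¹ ∈ Z)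
    (w : ws V Z) (m : h.MF) : h.Th (h.wj (C_norm d.2) w) (h.rcz d m) = h.Th w m := by
  obtain ⟨k, hk, hc⟩ := h.fix_line d.2 h1
  have hkC := kx_le_cent hk
  set c := (k : G)⁻¹ * d with hcd
  have hcC := centralizer_le h.one.pl.ZV hc
  have e1 : h.wj (C_norm d.2) w = h.wj (C_norm hkC) (h.wj (C_norm hcC) w) := by
    apply Subtype.ext
    rw [h.wj_coe, h.wj_coe, h.wj_coe, hcd]; group
  have e2 : h.rcz d m = h.rcz ⟨c, hcC⟩ m := by
    have e3 : d = ⟨k, hkC⟩ * ⟨c, hcC⟩ := Subtype.ext (by show (d : G) = k * c; rw [hcd]; group)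
    rw [e3, h.rcz_mul, h.rcz_K (k := ⟨k, hkC⟩) hk]
  rw [e1, hT.Th_K hk, e2]
  exact hT.Th_cent hc w m

/-- the elements `i⁻¹ a i` are trivial on `V / Z` -/
theorem TR.fix_of (hT : h.TR) {i j a : centralizer (Z : Set G)} {u : G} (hu : u ∈ ws V h.Yp)
    (hau : (a : G) = j * u * (j : G)⁻¹) {ψ : Module.Dual F h.MF} (ha : ∀ m, h.rcz a m = m + ψ m • h.vv j)
    (h0 : ψ (h.vv i) = 0) (y : F) :
    ((i⁻¹ * a * i : centralizer (Z : Set G)) : G) * h.e 0 y * ((i⁻¹ * a * i : centralizer (Z : Set G)) : G)⁻¹ *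
      (h.e 0 y)⁻¹ ∈ Z := by
  have h1 := hT.comm_line hu hau ha (h.lf i y)
  rw [h.fm_lf, map_smul, h0, smul_zero] at h1
  have e0 : (h.lf j 0 : G) = 1 := by
    show (j : G) * h.e 0 0 * (j : G)⁻¹ = 1
    rw [h.e_zero]; group
  rw [e0, one_mul] at h1
  have h2 := (mem_normalizer_iff.1 (C_norm (inv_mem i.2)) _).1 h1
  have e : (i : G)⁻¹ * ((a : G) * (h.lf i y : G) * (a : G)⁻¹ * (h.lf i y : G)⁻¹) * ((i : G)⁻¹)⁻¹ =
      ((i⁻¹ * a * i : centralizer (Z : Set G)) : G) * h.e 0 y * ((i⁻¹ * a * i : centralizer (Z : Set G)) : G)⁻¹ *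
      (h.e 0 y)⁻¹ := by
    show (i : G)⁻¹ * ((a : G) * (i * h.e 0 y * (i : G)⁻¹) * (a : G)⁻¹ * (i * h.e 0 y * (i : G)⁻¹)⁻¹) * ((i : G)⁻¹)⁻¹ =
      ((i : G)⁻¹ * a * i) * h.e 0 y * ((i : G)⁻¹ * a * i)⁻¹ * (h.e 0 y)⁻¹
    group
  rwa [e] at h2

theorem TR.fix_of' (hT : h.TR) {j a : centralizer (Z : Set G)} {u : G} (hu : u ∈ ws V h.Yp)
    (hau : (a : G) = j * u * (j : G)⁻¹) {ψ : Module.Dual F h.MF} (ha : ∀ m, h.rcz a m = m + ψ m • h.vv j)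
    (h0 : ψ h.v0 = 0) (y : F) : (a : G) * h.e 0 y * (a : G)⁻¹ * (h.e 0 y)⁻¹ ∈ Z := by
  have h1 := hT.fix_of (i := 1) hu hau ha (by rw [h.vv_one]; exact h0) y
  have e : (1⁻¹ * a * 1 : centralizer (Z : Set G)) = a := by group
  rwa [e] at h1

/-- the lift of `a m` -/
theorem TR.Th_act (hT : h.TR) {j a : centralizer (Z : Set G)} {u : G} (hu : u ∈ ws V h.Yp)
    (hau : (a : G) = j * u * (j : G)⁻¹) {ψ : Module.Dual F h.MF} (ha : ∀ m, h.rcz a m = m + ψ m • h.vv j) (w : ws V Z) :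
    h.Th (h.wj (C_norm a.2) w) = h.Th (h.lf j (ψ (h.fm w))) + h.Th w := by
  rw [← hT.Th_mul]
  exact hT.Th_congr (hT.comm_line hu hau ha w)

/-- **(inv)** -/
theorem TR.inv (hT : h.TR) {j : centralizer (Z : Set G)} {ψ : Module.Dual F h.MF} (hψ : ψ ∈ hT.Phi j)
    (h0 : ψ h.v0 = 0) (w : ws V Z) : h.Th (h.lf j (ψ (h.fm w))) = h.Th w (h.vv j) • ψ := by
  obtain ⟨u, hu, a, hau, ha⟩ := hT.exists_act hψ
  have haa : a * a = 1 := by
    apply Subtype.ext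
    show (a : G) * a = 1
    have e : (a : G) * a = j * (u * u) * (j : G)⁻¹ := by rw [hau]; group
    rw [e, h.one.sq_W h.pY hu]; group
  refine LinearMap.ext fun m => ?_
  have h1 := hT.Th_fix (hT.fix_of' hu hau ha h0) w (h.rcz a m)
  rw [← h.rcz_mul, haa, h.rcz_one, hT.Th_act hu hau ha w, ha m, map_add, map_smul, LinearMap.add_apply, smul_eq_mul] at h1
  rw [LinearMap.smul_apply, smul_eq_mul]
  have h2 : h.Th (h.lf j (ψ (h.fm w))) m = ψ m * h.Th w (h.vv j) := by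
    rw [add_comm (h.Th w m)] at h1
    exact add_right_cancel h1
  rw [h2, mul_comm]

/-! ### the torus -/

theorem TR.Th_tor (hT : h.TR) {τ : G} {s : F} (hτ : h.Tor τ s) (hs : s ≠ 0) (w : ws V Z) (m : h.MF) :
    h.Th (h.wj (hτ.norm_Z hs) w) m = s * h.Th w (h.rp ⟨τ, hτ.hat hs⟩ m) := by
  have hti := hτ.inv hs
  have hs' : s⁻¹ ≠ 0 := inv_ne_zero hs
  have hy : τ * (h.sw * τ * h.sw⁻¹) ∈ yl V Z := by
    rw [← h.XV_cent]
    refine ⟨(XV V Z).mul_mem hτ.mem ((XV V Z).mul_mem ((XV V Z).mul_mem h.sw_XV hτ.mem) ((XV V Z).inv_mem h.sw_XV)),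
      h.mem_cent fun x y => ?_⟩
    have e : τ * (h.sw * τ * h.sw⁻¹) * h.e x y * (τ * (h.sw * τ * h.sw⁻¹))⁻¹ =
        τ * (h.sw * (τ * (h.sw⁻¹ * h.e x y * h.sw) * τ⁻¹) * h.sw⁻¹) * τ⁻¹ := by group
    rw [e, h.sw_act', hτ.act, h.sw_act, hτ.act, mul_inv_cancel_left₀ hs, inv_mul_cancel_left₀ hs]
  have hb : h.rp ⟨τ⁻¹, hti.hat hs'⟩ h.v0 = s • h.v0 := by
    rw [h.rp_lam hti hs', inv_inv]
  have h1 := hT.Th_conj' (hτ.norm_Z hs) (hti.hat hs') hy (by group) hb w (h.rp ⟨τ, hτ.hat hs⟩ m)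
  have h2 : h.rp ⟨τ⁻¹, hti.hat hs'⟩ (h.rp ⟨τ, hτ.hat hs⟩ m) = m := by
    have := congrArg (fun f => f m) (h.hat_inv_mul (hτ.hat hs))
    exact this
  rw [h2] at h1
  rw [h1, mul_comm]

theorem TR.Th_tor' (hT : h.TR) {τ : G} {s : F} (hτ : h.Tor τ s) (hs : s ≠ 0) (w : ws V Z) :
    h.Th (h.wj (hτ.norm_Z hs) w) = s • (h.Th w ∘ₗ h.rp ⟨τ, hτ.hat hs⟩) :=
  LinearMap.ext fun m => hT.Th_tor hτ hs w m

/-- **(h1)** -/
theorem TR.tor (hT : h.TR) {τ : G} {s : F} (hτ : h.Tor τ s) (hs : s ≠ 0) {φ : Module.Dual F h.MF} (hφ : φ ∈ hT.Ph) :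
    s • (φ ∘ₗ h.rp ⟨τ, hτ.hat hs⟩) ∈ hT.Ph := by
  obtain ⟨w, rfl⟩ := hφ
  exact ⟨_, hT.Th_tor' hτ hs w⟩

/-- `[τ, a]` acts as an element of `Y_l` -/
theorem TR.tor_act (_hT : h.TR) {τ : G} {s : F} (hτ : h.Tor τ s) (hs : s ≠ 0) {k c : G} (hk : k ∈ kx V Z)
    (hc : c ∈ centralizer (V : Set G)) : ∃ k' ∈ kx V Z, ∃ y ∈ yl V Z, τ * (k * c) = k' * (y * (c * τ)) := by
  refine ⟨τ * k * τ⁻¹, ?_, τ * c * τ⁻¹ * c⁻¹, h.one.comm_yl hτ.mem hc, by group⟩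
  have := h.K_conj (inv_mem (hτ.norm_Z hs)) hk
  rwa [inv_inv] at this

/-- **(h2)** -/
theorem TR.tor_b (hT : h.TR) {τ : G} {s : F} (hτ : h.Tor τ s) (hs : s ≠ 0) {j : centralizer (Z : Set G)}
    {ψ φ : Module.Dual F h.MF} (hψ : ψ ∈ hT.Phi j) (h0 : ψ h.v0 = 0) (hφ : φ ∈ hT.Ph) (m : h.MF) :
    ψ m * φ (h.rp ⟨τ, hτ.hat hs⟩ (h.vv j)) = ψ (h.rp ⟨τ, hτ.hat hs⟩ m) * φ (h.vv j) := by
  obtain ⟨u, hu, a, hau, ha⟩ := hT.exists_act hψ
  obtain ⟨w, rfl⟩ := hφ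
  obtain ⟨k, hk, hc⟩ := h.fix_line a.2 (hT.fix_of' hu hau ha h0)
  have hkC := kx_le_cent hk
  set c := (k : G)⁻¹ * a with hcd
  have hcC := centralizer_le h.one.pl.ZV hc
  obtain ⟨k', hk', y, hy, he⟩ := hT.tor_act hτ hs hk hc
  have hyC := h.yl_C hy
  have hk'C := kx_le_cent hk'
  -- `T A = Y A T`
  have hA : ∀ m, h.rcz a m = h.rcz ⟨c, hcC⟩ m := by
    intro m
    have e3 : a = ⟨k, hkC⟩ * ⟨c, hcC⟩ := Subtype.ext (by show (a : G) = k * c; rw [hcd]; group)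
    rw [e3, h.rcz_mul, h.rcz_K (k := ⟨k, hkC⟩) hk]
  have hTA : h.rp ⟨τ, hτ.hat hs⟩ (h.rcz a m) = h.rcz ⟨y, hyC⟩ (h.rcz a (h.rp ⟨τ, hτ.hat hs⟩ m)) := by
    have e1 : (⟨τ, hτ.hat hs⟩ * ⟨a, h.C_le_hat a.2⟩ : h.hat) =
        ⟨k', h.C_le_hat hk'C⟩ * (⟨y, h.C_le_hat hyC⟩ * (⟨c, h.C_le_hat hcC⟩ * ⟨τ, hτ.hat hs⟩)) := by
      apply Subtype.ext
      show τ * (a : G) = k' * (y * (c * τ))
      rw [← he, hcd]; group
    have e2 := congrArg (fun x => h.rp x m) e1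
    simp only [map_mul, Module.End.mul_apply] at e2
    have e3 : ∀ m, h.rp ⟨k', h.C_le_hat hk'C⟩ m = m := fun m => h.rp_K hk' m
    rw [e3] at e2
    rw [hA (h.rp ⟨τ, hτ.hat hs⟩ m)]
    exact e2
  -- `φ ∘ Y = φ`
  have hY : ∀ m, h.Th w (h.rcz ⟨y, hyC⟩ m) = h.Th w m := by
    intro m
    have h1 := congrArg (fun f => f m) (h.yl_A hy (h.sw_W w.2))
    have h2 : h.rcz ⟨y, hyC⟩ (h.ag w m) = h.ag w (h.rcz ⟨y, hyC⟩ m) := h1
    rw [hT.ag_Th, hT.ag_Th, map_add, map_smul] at h2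
    have h3 : h.rcz ⟨y, hyC⟩ h.v0 = h.v0 := h.rp_cV (yl_le_cent V Z hy)
    rw [h3] at h2
    exact (h.smul_v0_inj (add_left_cancel h2)).symm
  have h4 := congrArg (h.Th w) hTA
  rw [hY, ha, ha, map_add, map_add, map_smul, map_add, map_smul, map_smul, smul_eq_mul, smul_eq_mul] at h4
  exact add_left_cancel h4

/-- **(h2)**, lifts -/
theorem TR.tor_γ (hT : h.TR) {τ : G} {s : F} (hτ : h.Tor τ s) (hs : s ≠ 0) {j : centralizer (Z : Set G)}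
    {ψ : Module.Dual F h.MF} (hψ : ψ ∈ hT.Phi j) (h0 : ψ h.v0 = 0) (m : h.MF) :
    h.Th (h.lf j (ψ (h.rp ⟨τ, hτ.hat hs⟩ m))) = s • (h.Th (h.lf j (ψ m)) ∘ₗ h.rp ⟨τ, hτ.hat hs⟩) := by
  obtain ⟨u, hu, a, hau, ha⟩ := hT.exists_act hψ
  obtain ⟨w, rfl⟩ := h.fm_surj m
  obtain ⟨k, hk, hc⟩ := h.fix_line a.2 (hT.fix_of' hu hau ha h0)
  have hkC := kx_le_cent hk
  set c := (k : G)⁻¹ * a with hcd
  have hcC := centralizer_le h.one.pl.ZV hc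
  obtain ⟨k', hk', y, hy, he⟩ := hT.tor_act hτ hs hk hc
  have hyC := h.yl_C hy
  have hk'C := kx_le_cent hk'
  have hN := hτ.norm_Z hs
  rw [← hT.Th_tor' hτ hs]
  -- `τ (a w a⁻¹) τ⁻¹` in two ways
  have e1 : h.wj hN (h.wj (C_norm a.2) w) =
      h.wj (C_norm hk'C) (h.wj (C_norm hyC) (h.wj (C_norm hcC) (h.wj hN w))) := by
    apply Subtype.ext
    simp only [h.wj_coe]
    have e2 : τ * ((a : G) * w * (a : G)⁻¹) * τ⁻¹ = (τ * (k * c)) * w * (τ * (k * c))⁻¹ := by rw [hcd]; group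
    rw [e2, he]; group
  have e3 : h.Th (h.wj hN (h.wj (C_norm a.2) w)) = h.Th (h.wj hN (h.lf j (ψ (h.fm w)))) + h.Th (h.wj hN w) := by
    rw [← hT.Th_mul]
    apply hT.Th_congr
    have h1 := (mem_normalizer_iff.1 hN _).1 (hT.comm_line hu hau ha w)
    have e4 : (h.wj hN (h.wj (C_norm a.2) w) : G) * ((h.wj hN (h.lf j (ψ (h.fm w))) * h.wj hN w : ws V Z) : G)⁻¹ =
        τ * ((a : G) * w * (a : G)⁻¹ * (h.lf j (ψ (h.fm w)) * w : G)⁻¹) * τ⁻¹ := by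
      rw [Subgroup.coe_mul]
      simp only [h.wj_coe]
      group
    rw [e4]
    exact h1
  have e5 : h.Th (h.wj (C_norm hcC) (h.wj hN w)) = h.Th (h.wj (C_norm a.2) (h.wj hN w)) := by
    have e6 : h.wj (C_norm a.2) (h.wj hN w) = h.wj (C_norm hkC) (h.wj (C_norm hcC) (h.wj hN w)) := by
      apply Subtype.ext
      simp only [h.wj_coe]
      rw [hcd]; group
    rw [e6, hT.Th_K hk]
  have e7 := hT.Th_act hu hau ha (h.wj hN w)
  rw [e1, hT.Th_K hk', hT.Th_yl hy, e5, e7] at e3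
  have e8 := add_right_cancel e3
  rw [← e8]
  congr 2
  rw [h.fm_wj (hτ.hat hs)]

end Co

end Cfsg.Agent.Omega.NO3S.OneQ

end
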